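import Groth.Agent.NeutralSchLib.Smooth
import Groth.Agent.NeutralSchLib.Represent
import Groth.Agent.TauSetLib.Open

/-!
# The neutral component is open over a dense open of the base
-/

set_option autoImplicit false
set_option backward.isDefEq.respectTransparency false

noncomputable section

universe u

open CategoryTheory CategoryTheory.Limits MonoidalCategory CartesianMonoidalCategory AlgebraicGeometry Topology
open TopologicalSpace
open scoped CategoryTheory.MonObj CategoryTheory.GrpObj
open Groth.Agent.NeutralSch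

namespace Groth.Agent.NeutralGen

/-- A point in the closure of the image of a constructible set of a Noetherian spectral space is a
specialisation of the image of a point of the set. -/
theorem exists_specializes_of_mem_closure_image {X Y : Type*} [TopologicalSpace X] [TopologicalSpace Y]
    [NoetherianSpace X] [QuasiSober X] [PrespectralSpace X] [QuasiSeparatedSpace X] {f : X → Y} (hf : Continuous f)
    {E : Set X} (hE : IsConstructible E) {y : Y} (hy : y ∈ closure (f '' E)) : ∃ d ∈ E, f d ⤳ y := by
  by_contra hc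
  push Not at hc
  have hcl : IsClosed[constructibleTopology X] E :=
    (Groth.Agent.ProConsLib.isClopen_cons_of_isConstructible hE).1
  have hcpt : @IsCompact X (constructibleTopology X) E := by
    haveI : @CompactSpace X (constructibleTopology X) :=
      @CompactSpace.mk X (constructibleTopology X) (by
        have h := @IsCompact.image (WithConstructibleTopology X) X _ (constructibleTopology X) _ _
          isCompact_univ (WithTopology.continuous_ofTopology (constructibleTopology X))
        rwa [Set.image_univ, Set.range_eq_univ.2 (fun x => ⟨WithTopology.toTopology _ x, rfl⟩)] at h)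
    exact @IsClosed.isCompact X (constructibleTopology X) E _ hcl
  have hopen : ∀ O : {O : Set Y // IsOpen O ∧ y ∈ O}, IsOpen[constructibleTopology X] (f ⁻¹' O.1)ᶜ := fun O =>
    IsCompact.isOpen_constructibleTopology_of_isClosed
      (by rw [compl_compl]; exact NoetherianSpace.isCompact _)
      ((O.2.1.preimage hf).isClosed_compl)
  have hcov : E ⊆ ⋃ O : {O : Set Y // IsOpen O ∧ y ∈ O}, (f ⁻¹' O.1)ᶜ := fun d hd => by
    obtain ⟨O, hO, hyO, hdO⟩ := not_specializes_iff_exists_open.1 (hc d hd)
    exact Set.mem_iUnion.2 ⟨⟨O, hO, hyO⟩, hdO⟩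
  obtain ⟨t, ht⟩ := @IsCompact.elim_finite_subcover X (constructibleTopology X) _ _ hcpt _ hopen hcov
  have hO : IsOpen (⋂ O ∈ t, (O : {O : Set Y // IsOpen O ∧ y ∈ O}).1) :=
    isOpen_biInter_finset fun O _ => O.2.1
  obtain ⟨z, hz, d, hd, rfl⟩ := mem_closure_iff.1 hy _ hO (Set.mem_iInter₂.2 fun O _ => O.2.2)
  obtain ⟨O, hO', hdO⟩ := Set.mem_iUnion₂.1 (ht hd)
  exact hdO (Set.mem_iInter₂.1 hz O hO')

variable {S : Scheme.{u}} {G : Over S} [GrpObj G]

/-- Each fibre of the union of the neutral components is stable under generisation inside the fibre. -/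
theorem mem_of_specializes {d y : G.left} (h : d ⤳ y) (hf : G.hom d = G.hom y)
    (hy : y ∈ SGA3x.neutralSet G) : d ∈ SGA3x.neutralSet G := by
  obtain ⟨p, hp⟩ := Set.mem_iUnion.1 hy
  refine Set.mem_iUnion.2 ⟨p, ?_⟩
  have hyf : y ∈ G.hom.base ⁻¹' {(𝟙_ (Over S)).hom.base p} := connectedComponentIn_subset _ _ hp
  have hpre : _root_.IsPreconnected ({d, y} : Set G.left) :=
    isPreconnected_singleton.subset_closure (s := {d}) (by simp)
      (Set.insert_subset (subset_closure rfl) (Set.singleton_subset_iff.2 (specializes_iff_mem_closure.1 h)))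
  have hsub : ({d, y} : Set G.left) ⊆ G.hom.base ⁻¹' {(𝟙_ (Over S)).hom.base p} := by
    rintro z (rfl | rfl)
    · rw [Set.mem_preimage, show G.hom.base z = G.hom.base y from hf]
      exact hyf
    · exact hyf
  rw [connectedComponentIn_eq hp]
  exact hpre.subset_connectedComponentIn (Or.inr rfl) hsub (Or.inl rfl)

/-- Over a neighbourhood of a generic point of the base the union of the neutral components is open. -/
theorem exists_open_compact_neutralSet [IsLocallyNoetherian S] [LocallyOfFiniteType G.hom] (η₀ : S)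
    (hη : ∀ z : S, z ⤳ η₀ → z = η₀) :
    ∃ U : S.Opens, η₀ ∈ U ∧ IsAffineOpen U ∧ IsOpen (SGA3x.neutralSet G ∩ G.hom.base ⁻¹' U) ∧
      IsCompact (SGA3x.neutralSet G ∩ G.hom.base ⁻¹' U) := by
  haveI : IsLocallyNoetherian G.left := LocallyOfFiniteType.isLocallyNoetherian G.hom
  haveI : LocallyOfFinitePresentation G.hom :=
    LocallyOfFinitePresentation.iff_locallyOfFiniteType.2 inferInstance
  haveI : QuasiSeparated G.hom := QuasiSeparated.of_comp G.hom (terminal.from S)
  obtain ⟨V, hV, hηV, -⟩ := exists_isAffineOpen_mem_and_subset (X := S) (x := η₀) (U := ⊤) trivial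
  haveI : IsAffine V.toScheme := hV
  obtain ⟨U₀, hU₀c, hU₀N⟩ := exists_qc_open (G := Red.bc V.ι G)
  let p := pullback.fst G.hom V.ι
  let U₁ : G.left.Opens := p ''ᵁ U₀
  have hU₁c : IsCompact (U₁ : Set G.left) := hU₀c.image p.continuous
  have hNU₁ : SGA3x.neutralSet G ∩ G.hom.base ⁻¹' V ⊆ U₁ := fun x ⟨hx, hxV⟩ => by
    obtain ⟨w, rfl⟩ : x ∈ Set.range p := by
      rw [IsOpenImmersion.range_pullbackFst, Scheme.Opens.opensRange_ι]
      exact hxV
    exact ⟨w, hU₀N (by rw [neutralSet_bc]; exact hx), rfl⟩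
  haveI : CompactSpace U₁.toScheme := isCompact_iff_compactSpace.1 hU₁c
  haveI : IsNoetherian U₁.toScheme := {}
  haveI : SpectralSpace U₁.toScheme := {}
  let g : U₁.toScheme → S := fun z => G.hom.base (U₁.ι z)
  have hg : Continuous g := G.hom.continuous.comp U₁.ι.continuous
  let N₁ : Set U₁.toScheme := U₁.ι ⁻¹' SGA3x.neutralSet G
  have hN₁ : IsConstructible N₁ :=
    ((isLocallyConstructible_neutralSet (G := G)).preimage_of_isOpenEmbedding U₁.ι.isOpenEmbedding).isConstructible
  have hgen : ∀ z ∈ N₁, g z = η₀ → z ∈ interior N₁ := by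
    intro z hz hzη
    rw [← Set.notMem_compl_iff, ← closure_compl]
    intro hzc
    obtain ⟨d, hd, hdz⟩ := exists_specializes_of_mem_closure_image continuous_id hN₁.compl
      (show z ∈ closure (id '' N₁ᶜ) by rwa [Set.image_id])
    have h1 : g d = η₀ := hη _ (hzη ▸ hdz.map hg)
    exact hd (mem_of_specializes (hdz.map U₁.ι.continuous) (h1.trans hzη.symm) hz)
  let B : Set U₁.toScheme := N₁ \ interior N₁
  have hB : IsConstructible B := by
    refine hN₁.inter ?_
    have hr : IsRetrocompact (interior N₁) := fun K _ _ => NoetherianSpace.isCompact _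
    exact (hr.isConstructible isOpen_interior).compl
  have hnot : η₀ ∉ closure (g '' B) := by
    intro h
    obtain ⟨d, hd, hdη⟩ := exists_specializes_of_mem_closure_image hg hB h
    exact hd.2 (hgen d hd.1 (hη _ hdη))
  obtain ⟨U, hU, hηU, hUsub⟩ := exists_isAffineOpen_mem_and_subset (X := S) (x := η₀)
    (U := (⟨(closure (g '' B))ᶜ, isClosed_closure.isOpen_compl⟩ : S.Opens) ⊓ V) ⟨hnot, hηV⟩
  have heq : SGA3x.neutralSet G ∩ G.hom.base ⁻¹' U = U₁.ι '' (interior N₁ ∩ g ⁻¹' U) := by
    ext x
    constructor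
    · rintro ⟨hx, hxU⟩
      obtain ⟨z, rfl⟩ : x ∈ Set.range U₁.ι := by
        rw [Scheme.Opens.range_ι]
        exact hNU₁ ⟨hx, (hUsub hxU).2⟩
      refine ⟨z, ⟨?_, hxU⟩, rfl⟩
      by_contra hzi
      exact (hUsub hxU).1 (subset_closure ⟨z, ⟨hx, hzi⟩, rfl⟩)
    · rintro ⟨z, ⟨hz, hzU⟩, rfl⟩
      exact ⟨(interior_subset hz : z ∈ N₁), hzU⟩
  refine ⟨U, hηU, hU, heq ▸ U₁.ι.isOpenEmbedding.isOpenMap _ (isOpen_interior.inter (U.2.preimage hg)),
    heq ▸ (NoetherianSpace.isCompact _).image U₁.ι.continuous⟩

end Groth.Agent.NeutralGen
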